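import Groth.Agent.HensSch7.Flat
import Groth.Agent.Hensel.NoethPair

/-! Local rings of affine henselian spectra are henselizations of pairs. -/

set_option autoImplicit false
set_option backward.isDefEq.respectTransparency false
set_option backward.isDefEq.respectTransparency.types false
set_option maxHeartbeats 1000000
universe u

open CategoryTheory Opposite TopologicalSpace AlgebraicGeometry Topology

namespace Groth.Agent.HensSch7

section Sph

variable {A : Type u} [CommRing A] {V : LocallyRingedSpace.{u}} (π : V ⟶ HensSch.specLRS A) (x : V)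

/-- The map to the local ring of the spectrum at the image of a point. -/
noncomputable def baseGerm : A →+* (HensSch.specLRS A).presheaf.stalk (π.base x) :=
  ((HensSch.specLRS A).presheaf.germ ⊤ (π.base x) trivial).hom.comp
    (Scheme.ΓSpecIso (CommRingCat.of A)).inv.hom

theorem stalkMap_baseGerm (f : A) (hx : x ∈ HensSch.dOpen π f) (a : A) :
    π.stalkMap x (baseGerm π x a) = V.presheaf.germ (HensSch.dOpen π f) x hx (sphMap π f a) := by
  refine Eq.trans ?_ (V.presheaf.germ_res_apply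
    (homOfLE (le_top : HensSch.dOpen π f ≤ (Opens.map π.base).obj ⊤)) x hx _).symm
  exact PresheafedSpace.stalkMap_germ_apply π.toHom ⊤ x trivial _

theorem isLocalization_baseGerm :
    @IsLocalization A _ (PrimeSpectrum.asIdeal (π.base x)).primeCompl
      ((HensSch.specLRS A).presheaf.stalk (π.base x)) _ (baseGerm π x).toAlgebra :=
  (inferInstance : IsLocalization.AtPrime
    ((Spec.structureSheaf A).presheaf.stalk (π.base x : PrimeSpectrum A)) (π.base x : PrimeSpectrum A).asIdeal)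

theorem isUnit_baseGerm {f : A} (hx : x ∈ HensSch.dOpen π f) : IsUnit (baseGerm π x f) := by
  letI := (baseGerm π x).toAlgebra
  haveI := isLocalization_baseGerm π x
  exact IsLocalization.map_units ((HensSch.specLRS A).presheaf.stalk (π.base x))
    (⟨f, hx⟩ : (PrimeSpectrum.asIdeal (π.base x)).primeCompl)

theorem isNoetherianRing_base [IsNoetherianRing A] :
    IsNoetherianRing ((HensSch.specLRS A).presheaf.stalk (π.base x)) := by
  letI := (baseGerm π x).toAlgebra
  haveI := isLocalization_baseGerm π x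
  exact IsLocalization.isNoetherianRing (PrimeSpectrum.asIdeal (π.base x)).primeCompl _ inferInstance

variable {π} {J : Ideal A} (hV : HensSch.IsSph A J V π)
include hV

theorem map_baseGerm_le_maximalIdeal :
    (J.map (baseGerm π x)).map (π.stalkMap x).hom ≤ IsLocalRing.maximalIdeal (V.presheaf.stalk x) := by
  obtain ⟨f, hxf, -⟩ := exists_dOpen hV x ⊤ trivial
  rw [Ideal.map_map, Ideal.map_le_iff_le_comap]
  intro a ha
  rw [Ideal.mem_comap, IsLocalRing.mem_maximalIdeal, mem_nonunits_iff, RingHom.comp_apply]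
  exact fun h => (isUnit_germ_sphMap π f a x hxf).1 (stalkMap_baseGerm π x f hxf a ▸ h) (le_asIdeal hV x ha)

theorem exists_stage {ι : Type} [Finite ι] (s : ι → V.presheaf.stalk x) :
    ∃ (f : A) (hx : x ∈ HensSch.dOpen π f) (t : ι → Sec V (HensSch.dOpen π f)),
      ∀ i, V.presheaf.germ _ x hx (t i) = s i := by
  obtain ⟨U, hxU, t, ht⟩ := SiteBase.exists_common_open V.presheaf x s
  obtain ⟨f, hxf, hf⟩ := exists_dOpen hV x U hxU
  exact ⟨f, hxf, fun i => res hf (t i), fun i => (V.presheaf.germ_res_apply _ x hxf (t i)).trans (ht i)⟩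

theorem exists_stage_eq {U : Opens V} (hxU : x ∈ U) (s t : Sec V U)
    (h : V.presheaf.germ U x hxU s = V.presheaf.germ U x hxU t) :
    ∃ (f : A) (hf : HensSch.dOpen π f ≤ U), x ∈ HensSch.dOpen π f ∧ res hf s = res hf t := by
  obtain ⟨W, hxW, i, i', hW⟩ := V.presheaf.germ_eq x hxU hxU s t h
  obtain ⟨f, hxf, hf⟩ := exists_dOpen hV x W hxW
  refine ⟨f, hf.trans i.le, hxf, ?_⟩
  have h2 := congrArg (res hf) (show res i.le s = res i'.le t from hW)
  rwa [res_res, res_res] at h2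

theorem henselianRing_stalk [IsNoetherianRing A] :
    HenselianRing (V.presheaf.stalk x) ((J.map (baseGerm π x)).map (π.stalkMap x).hom) := by
  refine ⟨(map_baseGerm_le_maximalIdeal x hV).trans (IsLocalRing.maximalIdeal_le_jacobson ⊥), ?_⟩
  intro p hp a₀ ha₀ hder
  obtain ⟨r, g, hg⟩ := Submodule.fg_iff_exists_fin_generating_family.mp (IsNoetherian.noetherian J)
  replace hg : Ideal.span (Set.range g) = J := hg
  have hspan : (J.map (baseGerm π x)).map (π.stalkMap x).hom =
      Ideal.span (Set.range fun k => π.stalkMap x (baseGerm π x (g k))) := by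
    rw [← hg, Ideal.map_span, Ideal.map_span, ← Set.range_comp, ← Set.range_comp]
    rfl
  obtain ⟨c, hc⟩ := (Ideal.mem_span_range_iff_exists_fun).1 (hspan ▸ ha₀)
  have hu : IsUnit (p.derivative.eval a₀) := by
    obtain ⟨w, hw⟩ := Ideal.Quotient.mk_surjective (hder.unit⁻¹ : ((V.presheaf.stalk x) ⧸ _)ˣ).val
    by_contra hn
    have h1 : p.derivative.eval a₀ * w - 1 ∈ IsLocalRing.maximalIdeal (V.presheaf.stalk x) := by
      refine map_baseGerm_le_maximalIdeal x hV ?_
      rw [← Ideal.Quotient.eq, map_mul, hw, map_one]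
      exact hder.mul_val_inv
    have h2 : p.derivative.eval a₀ * w ∈ IsLocalRing.maximalIdeal (V.presheaf.stalk x) :=
      Ideal.mul_mem_right _ _ hn
    exact (IsLocalRing.maximalIdeal.isMaximal (V.presheaf.stalk x)).ne_top ((Ideal.eq_top_iff_one _).2
      (by simpa using sub_mem h2 h1))
  let d := p.natDegree
  obtain ⟨f, hxf, t, ht⟩ := exists_stage x hV (ι := (Fin d ⊕ Unit) ⊕ Fin r)
    (Sum.elim (Sum.elim (fun i => p.coeff i) fun _ => a₀) c)
  let B := Sec V (HensSch.dOpen π f)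
  let q : Polynomial B := Polynomial.X ^ d + ∑ i : Fin d, Polynomial.C (t (.inl (.inl i))) * Polynomial.X ^ (i : ℕ)
  have hq : q.Monic := by
    refine Polynomial.monic_X_pow_add (lt_of_le_of_lt (Polynomial.degree_sum_le _ _) ?_)
    refine (Finset.sup_lt_iff (WithBot.bot_lt_coe d)).2 fun i _ => ?_
    exact lt_of_le_of_lt (Polynomial.degree_C_mul_X_pow_le _ _) (WithBot.coe_lt_coe.2 i.2)
  let γ : B →+* V.presheaf.stalk x := (V.presheaf.germ (HensSch.dOpen π f) x hxf).hom
  have hqp : q.map γ = p := by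
    conv_rhs => rw [hp.as_sum]
    simp only [q, Polynomial.map_add, Polynomial.map_pow, Polynomial.map_X, Polynomial.map_sum, Polynomial.map_mul,
      Polynomial.map_C]
    congr 1
    rw [← Fin.sum_univ_eq_sum_range fun i => Polynomial.C (p.coeff i) * Polynomial.X ^ i]
    refine Finset.sum_congr rfl fun i _ => ?_
    erw [Polynomial.map_C, show γ (t (.inl (.inl i))) = p.coeff (i : ℕ) from ht (.inl (.inl i))]
  let b₀ := t (.inl (.inr ()))
  have hb₀ : γ b₀ = a₀ := ht (.inl (.inr ()))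
  have heval : γ (q.eval b₀) = γ (∑ k, t (.inr k) * sphMap π f (g k)) := by
    rw [map_sum, ← Polynomial.eval_map_apply, hqp, hb₀, ← hc]
    refine Finset.sum_congr rfl fun k _ => ?_
    rw [map_mul]
    exact congrArg₂ (· * ·) (ht (.inr k)).symm (stalkMap_baseGerm π x f hxf (g k))
  obtain ⟨f₁, hf₁, hxf₁, he⟩ := exists_stage_eq x hV hxf _ _ heval
  let ρ : B →+* Sec V (HensSch.dOpen π f₁) := res hf₁
  let γ₁ : Sec V (HensSch.dOpen π f₁) →+* V.presheaf.stalk x := (V.presheaf.germ _ x hxf₁).hom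
  have hγ : γ₁.comp ρ = γ := RingHom.ext fun b => V.presheaf.germ_res_apply _ x hxf₁ b
  let q₁ := q.map ρ
  obtain ⟨v, hv⟩ : ∃ v, v = q₁.derivative.eval (ρ b₀) := ⟨_, rfl⟩
  have hvu : IsUnit (γ₁ v) := by
    rw [hv, ← Polynomial.eval_map_apply, ← Polynomial.derivative_map]
    rw [Polynomial.map_map, hγ, hqp, show γ₁ (ρ b₀) = a₀ from (RingHom.congr_fun hγ b₀).trans hb₀]
    exact hu
  let O : Opens V := ⟨_, (V.toRingedSpace.basicOpen v).isOpen⟩
  obtain ⟨f₂, hxf₂, hf₂⟩ := exists_dOpen hV x O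
    ((V.toRingedSpace.mem_basicOpen _ x hxf₁).2 hvu)
  have hle : HensSch.dOpen π f₂ ≤ HensSch.dOpen π f₁ := hf₂.trans (V.toRingedSpace.basicOpen_le v)
  let ρ₂ : B →+* Sec V (HensSch.dOpen π f₂) := res (hle.trans hf₁)
  have hρ : (res hle).comp ρ = ρ₂ := res_comp _ _
  have h2u : IsUnit (res hle v) := by
    have := V.toRingedSpace.isUnit_res_basicOpen v
    have h3 := this.map (res (hf₂ : HensSch.dOpen π f₂ ≤ V.toRingedSpace.basicOpen v))
    refine (congrArg IsUnit ?_).mp h3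
    exact res_res _ _ v
  have hsph : ∀ a, ρ₂ (sphMap π f a) = sphMap π f₂ a := fun a => by
    show res _ (sphMap π f a) = _
    rw [sphMap_eq, res_res]; rfl
  obtain ⟨b, hb, hbb⟩ := (hV.2.2 f₂).2.1.is_henselian (q.map ρ₂) (hq.map _) (ρ₂ b₀) (by
      rw [Polynomial.eval_map_apply, ← hρ, RingHom.comp_apply,
        show ρ (q.eval b₀) = ρ (∑ k, t (.inr k) * sphMap π f (g k)) from he, ← RingHom.comp_apply, hρ, map_sum]
      refine Ideal.sum_mem _ fun k _ => ?_
      rw [map_mul, hsph]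
      exact Ideal.mul_mem_left _ _ (Ideal.mem_map_of_mem _ (hg ▸ Ideal.subset_span ⟨k, rfl⟩))) (by
      refine IsUnit.map _ ((congrArg IsUnit ?_).mp h2u)
      rw [hv, ← Polynomial.eval_map_apply, ← Polynomial.derivative_map]
      show ((q.map ρ).map _).derivative.eval _ = _
      rw [Polynomial.map_map, hρ, ← RingHom.comp_apply, hρ])
  let γ₂ : Sec V (HensSch.dOpen π f₂) →+* V.presheaf.stalk x := (V.presheaf.germ _ x hxf₂).hom
  have hγ₂ : γ₂.comp ρ₂ = γ := RingHom.ext fun b => V.presheaf.germ_res_apply _ x hxf₂ b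
  refine ⟨γ₂ b, ?_, ?_⟩
  · have h := hb.map (f := γ₂)
    rwa [Polynomial.map_map, hγ₂, hqp] at h
  · have h := Ideal.mem_map_of_mem γ₂ hbb
    rw [map_sub, ← RingHom.comp_apply, hγ₂, hb₀, Ideal.map_map] at h
    rw [Ideal.map_map]
    refine (congrArg (fun φ => γ₂ b - a₀ ∈ Ideal.map φ J) ?_).mp h
    exact RingHom.ext fun a => (stalkMap_baseGerm π x f₂ hxf₂ a).symm

theorem isPairHenselization_stalk [IsNoetherianRing A] :
    letI := (π.stalkMap x).hom.toAlgebra
    Hens2.IsPairHenselization ((HensSch.specLRS A).presheaf.stalk (π.base x)) (J.map (baseGerm π x))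
      (V.presheaf.stalk x) := by
  letI := (π.stalkMap x).hom.toAlgebra
  refine ⟨henselianRing_stalk x hV, fun C _ J' g hC hJ' => ?_⟩
  let gA : A →+* C := g.comp (baseGerm π x)
  have hgA : J.map gA ≤ J' := by rwa [← Ideal.map_map]
  choose h hh huniq using fun (i : {f : A // x ∈ HensSch.dOpen π f}) =>
    (hV.2.2 i.1).2.2 C J' gA hC hgA ((isUnit_baseGerm π x i.2).map g)
  have hres : ∀ (i i' : {f : A // x ∈ HensSch.dOpen π f}) (hle : HensSch.dOpen π i'.1 ≤ HensSch.dOpen π i.1)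
      (s : Sec V (HensSch.dOpen π i.1)), h i' (res hle s) = h i s := fun i i' hle s =>
    RingHom.congr_fun (huniq i ((h i').comp (res hle)) (RingHom.ext fun a => by
      show h i' (res hle (sphMap π i.1 a)) = gA a
      rw [sphMap_eq, res_res]
      exact RingHom.congr_fun (hh i') a)) s
  have hindep : ∀ (U₁ U₂ : Opens V) (s₁ : Sec V U₁) (s₂ : Sec V U₂) (hx₁ : x ∈ U₁) (hx₂ : x ∈ U₂)
      (i₁ i₂ : {f : A // x ∈ HensSch.dOpen π f}) (l₁ : HensSch.dOpen π i₁.1 ≤ U₁)
      (l₂ : HensSch.dOpen π i₂.1 ≤ U₂), V.presheaf.germ U₁ x hx₁ s₁ = V.presheaf.germ U₂ x hx₂ s₂ →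
      h i₁ (res l₁ s₁) = h i₂ (res l₂ s₂) := by
    intro U₁ U₂ s₁ s₂ hx₁ hx₂ i₁ i₂ l₁ l₂ he
    have h1 : V.presheaf.germ (HensSch.dOpen π i₁.1 ⊓ HensSch.dOpen π i₂.1) x
          (show x ∈ HensSch.dOpen π i₁.1 ⊓ HensSch.dOpen π i₂.1 from ⟨i₁.2, i₂.2⟩)
        (res (inf_le_left.trans l₁) s₁) = V.presheaf.germ _ x (show x ∈ HensSch.dOpen π i₁.1 ⊓ HensSch.dOpen π i₂.1 from ⟨i₁.2, i₂.2⟩) (res (inf_le_right.trans l₂) s₂) :=
      (V.presheaf.germ_res_apply _ x _ s₁).trans (he.trans (V.presheaf.germ_res_apply _ x _ s₂).symm)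
    obtain ⟨f, hf, hxf, hfe⟩ := exists_stage_eq x hV _ _ _ h1
    rw [← hres i₁ ⟨f, hxf⟩ (hf.trans inf_le_left), ← hres i₂ ⟨f, hxf⟩ (hf.trans inf_le_right), res_res, res_res]
    rw [res_res, res_res] at hfe
    exact congrArg (h ⟨f, hxf⟩) hfe
  choose f hxf s hs using fun t : V.presheaf.stalk x => exists_stage (ι := Unit) x hV fun _ => t
  let G : V.presheaf.stalk x → C := fun t => h ⟨f t, hxf t⟩ (s t ())
  have hG : ∀ (i : {f : A // x ∈ HensSch.dOpen π f}) (r : Sec V (HensSch.dOpen π i.1)),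
      G (V.presheaf.germ _ x i.2 r) = h i r := fun i r => by
    have := hindep _ _ (s (V.presheaf.germ _ x i.2 r) ()) r (hxf _) i.2 ⟨_, hxf _⟩ i le_rfl le_rfl (hs _ ())
    rwa [res_self, res_self] at this
  have hop : ∀ t t', G (t + t') = G t + G t' ∧ G (t * t') = G t * G t' := by
    intro t t'
    obtain ⟨f₀, hx₀, r, hr⟩ := exists_stage (ι := Bool) x hV fun b => if b then t else t'
    have h₁ : V.presheaf.germ _ x hx₀ (r true) = t := hr true
    have h₂ : V.presheaf.germ _ x hx₀ (r false) = t' := hr false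
    refine ⟨?_, ?_⟩
    · rw [← h₁, ← h₂, ← map_add, hG ⟨f₀, hx₀⟩, hG ⟨f₀, hx₀⟩, hG ⟨f₀, hx₀⟩, map_add]
    · rw [← h₁, ← h₂, ← map_mul, hG ⟨f₀, hx₀⟩, hG ⟨f₀, hx₀⟩, hG ⟨f₀, hx₀⟩, map_mul]
  obtain ⟨f₀, hx₀, -⟩ := exists_dOpen hV x ⊤ trivial
  let G' : V.presheaf.stalk x →+* C :=
    { toFun := G
      map_one' := by rw [← map_one (V.presheaf.germ _ x hx₀).hom, hG ⟨f₀, hx₀⟩, map_one]
      map_zero' := by rw [← map_zero (V.presheaf.germ _ x hx₀).hom, hG ⟨f₀, hx₀⟩, map_zero]
      map_mul' := fun t t' => (hop t t').2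
      map_add' := fun t t' => (hop t t').1 }
  refine ⟨G', ?_, fun g' hg' => ?_⟩
  · letI := (baseGerm π x).toAlgebra
    haveI := isLocalization_baseGerm π x
    refine IsLocalization.ringHom_ext (PrimeSpectrum.asIdeal (π.base x)).primeCompl (RingHom.ext fun a => ?_)
    show G (π.stalkMap x (baseGerm π x a)) = g (baseGerm π x a)
    rw [stalkMap_baseGerm π x f₀ hx₀ a, hG ⟨f₀, hx₀⟩]
    exact RingHom.congr_fun (hh ⟨f₀, hx₀⟩) a
  · refine RingHom.ext fun t => ?_
    show g' t = h ⟨f t, hxf t⟩ (s t ())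
    conv_lhs => rw [← hs t ()]
    refine RingHom.congr_fun (huniq ⟨f t, hxf t⟩ (g'.comp (V.presheaf.germ _ x (hxf t)).hom) ?_) (s t ())
    refine RingHom.ext fun a => ?_
    show g' (V.presheaf.germ _ x (hxf t) (sphMap π (f t) a)) = g (baseGerm π x a)
    rw [← stalkMap_baseGerm π x (f t) (hxf t) a]
    exact RingHom.congr_fun hg' (baseGerm π x a)

end Sph

end Groth.Agent.HensSch7
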