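import Groth.Agent.HensSch7.Unit
import Groth.Agent.HensSch7.Stalk
import Groth.Agent.S0060
import Groth.Agent.FFun.Basic
import Groth.Agent.QCoh.Support
import Groth.Agent.QCoh.DevissageP
import Groth.Agent.KFlatLib.Scheme.RGammaPush

/-! Henselisation is fully faithful on coherent modules of a proper scheme over a complete base. -/

set_option autoImplicit false
set_option linter.style.haveILetI false
set_option backward.isDefEq.respectTransparency false
set_option backward.isDefEq.respectTransparency.types false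
set_option maxHeartbeats 1000000
universe u

open CategoryTheory CategoryTheory.Limits Opposite TopologicalSpace AlgebraicGeometry Topology

namespace Groth.Agent.HensSch7

variable {A : Type u} [CommRing A] {X : Scheme.{u}} [X.Over (Spec (CommRingCat.of A))]

theorem isUnit_scalarGerm_iff (y : X) (a : A) :
    IsUnit (scalarGerm X A y a) ↔
      a ∉ PrimeSpectrum.asIdeal ((X ↘ Spec (CommRingCat.of A)).base y) := by
  let t : Γ(Spec (CommRingCat.of A), ⊤) := (Scheme.ΓSpecIso (CommRingCat.of A)).inv a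
  have h := SetLike.ext_iff.mp (AlgebraicGeometry.basicOpen_eq_of_affine (R := CommRingCat.of A) a)
    ((X ↘ Spec (CommRingCat.of A)).base y)
  rw [Scheme.mem_basicOpen_top] at h
  refine Iff.trans ?_ h
  refine (X.mem_basicOpen_top _ _).symm.trans ?_
  show y ∈ X.basicOpen ((X ↘ Spec (CommRingCat.of A)).appTop t) ↔ _
  rw [← Scheme.preimage_basicOpen_top]
  exact (Scheme.mem_basicOpen_top (Spec (CommRingCat.of A)) t ((X ↘ Spec (CommRingCat.of A)).base y))

variable [IsNoetherianRing A]

/-- The properties of the local rings of a henselisation. -/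
def StalkGood (I : Ideal A) {Z : LocallyRingedSpace.{u}} (g : Z ⟶ X.toLocallyRingedSpace) (z : Z) : Prop :=
  IsNoetherianRing (Z.presheaf.stalk z) ∧ ∀ (n : ℕ) (t : Z.presheaf.stalk z), ∃ r,
    t - g.stalkMap z r ∈ ((I ^ n).map (scalarGerm X A (g.base z))).map (g.stalkMap z).hom

theorem stalkGood_congr {I : Ideal A} {Z : LocallyRingedSpace.{u}} {g₁ g₂ : Z ⟶ X.toLocallyRingedSpace} (h : g₁ = g₂)
    (z : Z) (hg : StalkGood I g₁ z) : StalkGood I g₂ z := by subst h; exact hg

theorem stalkGood_of_open {I : Ideal A} {W Z : LocallyRingedSpace.{u}} (v : W ⟶ Z)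
    [LocallyRingedSpace.IsOpenImmersion v] (g : Z ⟶ X.toLocallyRingedSpace) (w : W)
    (h : StalkGood I (v ≫ g) w) : StalkGood I g (v.base w) := by
  haveI : IsIso (v.stalkMap w) := PresheafedSpace.IsOpenImmersion.stalk_iso v.toHom w
  let e : Z.presheaf.stalk (v.base w) ≃+* W.presheaf.stalk w := (asIso (v.stalkMap w)).commRingCatIsoToRingEquiv
  haveI := h.1
  refine ⟨isNoetherianRing_of_ringEquiv _ e.symm, fun n t => ?_⟩
  obtain ⟨r, hr⟩ := h.2 n (e t)
  refine ⟨r, ?_⟩
  rw [LocallyRingedSpace.stalkMap_comp, CommRingCat.hom_comp, ← Ideal.map_map] at hr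
  let K := ((I ^ n).map (scalarGerm X A (g.base (v.base w)))).map (g.stalkMap (v.base w)).hom
  have h2 : e (t - g.stalkMap (v.base w) r) ∈ K.map (e : Z.presheaf.stalk (v.base w) →+* W.presheaf.stalk w) := by
    rw [map_sub]; exact hr
  obtain ⟨k, hk, hk'⟩ := (Ideal.mem_map_iff_of_surjective _ e.surjective).1 h2
  rwa [e.injective hk'] at hk

theorem stalkGood_sph {I : Ideal A} {R : Type u} [CommRing R] [IsNoetherianRing R]
    (j : Spec (CommRingCat.of R) ⟶ X) [IsOpenImmersion j] {Y : Set X}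
    (hY : Y = (X ↘ Spec (CommRingCat.of A)).base ⁻¹' PrimeSpectrum.zeroLocus (I : Set A))
    {V : LocallyRingedSpace.{u}} {π : V ⟶ HensSch.specLRS R}
    (hV : HensSch.IsSph R (PrimeSpectrum.vanishingIdeal (j.base ⁻¹' Y)) V π) (w : V) :
    StalkGood I (π ≫ j.toLRSHom) w := by
  obtain ⟨α, hα⟩ := Spec.map_surjective (j ≫ (X ↘ Spec (CommRingCat.of A)))
  let J : Ideal R := PrimeSpectrum.vanishingIdeal (j.base ⁻¹' Y)
  have hJ : J = (I.map α.hom).radical := by
    rw [← PrimeSpectrum.vanishingIdeal_zeroLocus_eq_radical]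
    show PrimeSpectrum.vanishingIdeal (j.base ⁻¹' Y) = _
    congr 1
    subst hY
    rw [← Set.preimage_comp, Ideal.map, PrimeSpectrum.zeroLocus_span,
      ← PrimeSpectrum.preimage_comap_zeroLocus]
    refine congrArg (fun g => g ⁻¹' _) ?_
    funext p
    exact congr($(hα).base p).symm
  obtain ⟨m, hm⟩ := Ideal.exists_pow_le_of_le_radical_of_fg hJ.le (IsNoetherian.noetherian J)
  let S₀ : Type u := (HensSch.specLRS R).presheaf.stalk (π.base w)
  letI : Algebra S₀ (V.presheaf.stalk w) := (π.stalkMap w).hom.toAlgebra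
  haveI : IsNoetherianRing S₀ := isNoetherianRing_base π w
  have hH := isPairHenselization_stalk w hV
  refine ⟨Hensel.isNoetherianRing_of_isPairHenselization _ hH, fun n t => ?_⟩
  obtain ⟨r, hr⟩ := Hensel.exists_sub_mem_pow (J.map (baseGerm π w))
    (Hensel.exists_sub_mem_of_isPairHenselization _ hH) (m * n) t
  haveI : LocallyRingedSpace.IsOpenImmersion j.toLRSHom := ‹IsOpenImmersion j›
  haveI : IsIso (j.toLRSHom.stalkMap (π.base w)) := PresheafedSpace.IsOpenImmersion.stalk_iso j.toLRSHom.toHom _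
  obtain ⟨r', rfl⟩ := (ConcreteCategory.bijective_of_isIso (j.toLRSHom.stalkMap (π.base w))).2 r
  refine ⟨r', ?_⟩
  rw [LocallyRingedSpace.stalkMap_comp, CommRingCat.hom_comp, ← Ideal.map_map, CommRingCat.comp_apply]
  refine (?_ : ((J.map (baseGerm π w)) ^ (m * n)).map (π.stalkMap w).hom ≤ _) hr
  refine Ideal.map_mono ?_
  have hgerm : (j.toLRSHom.stalkMap (π.base w)).hom.comp (scalarGerm X A (j.base (π.base w))) =
      (baseGerm π w).comp α.hom := by
    refine RingHom.ext fun a => ?_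
    refine (Scheme.Hom.germ_stalkMap_apply j ⊤ (π.base w) trivial _).trans ?_
    show (Spec (CommRingCat.of R)).presheaf.germ _ _ _ (j.app ⊤ (Coh.toGlobal (X ↘ Spec (CommRingCat.of A)) a)) =
      (Spec (CommRingCat.of R)).presheaf.germ ⊤ _ _ ((Scheme.ΓSpecIso (CommRingCat.of R)).inv (α a))
    have h1 : j.app ⊤ (Coh.toGlobal (X ↘ Spec (CommRingCat.of A)) a) =
        (Scheme.ΓSpecIso (CommRingCat.of R)).inv (α a) := by
      show j.appTop ((X ↘ Spec (CommRingCat.of A)).appTop ((Scheme.ΓSpecIso (CommRingCat.of A)).inv a)) = _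
      rw [← CommRingCat.comp_apply, ← Scheme.Hom.comp_appTop, ← hα]
      exact congr($((Scheme.ΓSpecIso_inv_naturality α).symm) a)
    rw [← h1]
    rfl
  show _ ≤ Ideal.map (j.toLRSHom.stalkMap (π.base w)).hom ((I ^ n).map (scalarGerm X A (j.base (π.base w))))
  rw [Ideal.map_map, hgerm, ← Ideal.map_map, pow_mul, ← Ideal.map_pow, ← Ideal.map_pow, Ideal.map_pow α.hom]
  exact Ideal.map_mono (Ideal.pow_right_mono hm n)

/-- The henselisation along the preimage of the closed set of `I` has the properties of a good map. -/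
theorem goodMap_of_isHenselizationAlong [IsLocallyNoetherian X] (I : Ideal A) {Xh : LocallyRingedSpace.{u}}
    {ι : Xh ⟶ X.toLocallyRingedSpace}
    (hh : HensSch.IsHenselizationAlong X
      ((X ↘ Spec (CommRingCat.of A)).base ⁻¹' PrimeSpectrum.zeroLocus (I : Set A)) Xh ι) :
    GoodMap ι I := by
  have hst : ∀ x, StalkGood I ι x := by
    intro x
    obtain ⟨R, _, j, hj, hxj, V, v, hv, π, hr, hc, hV⟩ := hh.2.2.2 (ι.base x) (hh.2.2.1.le ⟨x, rfl⟩)
    obtain ⟨w, rfl⟩ : x ∈ Set.range v.base := hr.ge hxj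
    haveI : IsLocallyNoetherian (Spec (CommRingCat.of R)) := isLocallyNoetherian_of_isOpenImmersion j
    haveI : IsNoetherianRing R := (isLocallyNoetherian_Spec (R := CommRingCat.of R)).1 ‹_›
    exact stalkGood_of_open v ι w (stalkGood_congr hc.symm w (stalkGood_sph j rfl hV w))
  refine ⟨hh.2.1, hh.2.2.1.symm ▸ hh.1, fun y hy => ?_, fun x => ?_, flat_stalkMap_henselization hh,
    fun x => (hst x).1, fun x => (hst x).2⟩
  · rw [hh.2.2.1] at hy
    by_contra hc
    push_neg at hc
    exact hy fun a ha => not_not.1 fun hn => hc a ha ((isUnit_scalarGerm_iff y a).2 hn)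
  · rw [Ideal.map_map, Ideal.map_le_iff_le_comap]
    intro a ha
    rw [Ideal.mem_comap, IsLocalRing.mem_maximalIdeal, mem_nonunits_iff, RingHom.comp_apply]
    intro hu
    haveI : IsLocalHom (ι.stalkMap x).hom := AlgebraicGeometry.LocallyRingedSpace.isLocalHomStalkMap ι x
    exact (isUnit_scalarGerm_iff (ι.base x) a).1 (isUnit_of_map_unit (ι.stalkMap x).hom _ hu)
      ((hh.2.2.1.le ⟨x, rfl⟩ : _) ha)

variable {I : Ideal A} [IsAdicComplete I A] [IsProper (X ↘ Spec (CommRingCat.of A))]
  {Xh : LocallyRingedSpace.{u}} {ι : Xh ⟶ X.toLocallyRingedSpace}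
  (hh : HensSch.IsHenselizationAlong X
    ((X ↘ Spec (CommRingCat.of A)).base ⁻¹' PrimeSpectrum.zeroLocus (I : Set A)) Xh ι)
include hh

theorem bijective_pullMod_map_proper {F G : X.Modules} (hF : Coh.IsCoh F) (hG : Coh.IsCoh G) :
    Function.Bijective ((HensSch.pullMod ι).map : (F ⟶ G) → _) := by
  haveI : IsLocallyNoetherian X := LocallyOfFiniteType.isLocallyNoetherian (X ↘ Spec (CommRingCat.of A))
  have hι := goodMap_of_isHenselizationAlong I hh
  have hfin : ∀ y : X, Module.Finite (X.presheaf.stalk y) (G.presheaf.stalk y) :=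
    QCoh.finite_stalk_of_isFT hG.1 (QCoh.isFT_of_isFP (QCoh.isCoh_iff_isFP.1 hG))
  have hk : ∀ (n : ℕ) (M : X.Modules), Formal.KilledBy (I ^ (n + 1)) (Formal.modPow I (n + 1) M) := by
    intro n M a ha
    haveI : Epi (Formal.modPowπ I (n + 1) M) := inferInstanceAs (Epi (cokernel.π _))
    rw [← cancel_epi (Formal.modPowπ I (n + 1) M), comp_zero, ← FFun.smulMod_naturality]
    have h1 := congrArg (Sigma.ι (fun _ : ↥(I ^ (n + 1)) => M) ⟨a, ha⟩ ≫ ·)
      (cokernel.condition (Formal.smulFamily (I ^ (n + 1)) M))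
    refine Eq.trans ?_ (h1.trans comp_zero)
    exact (congrArg (· ≫ _) (Sigma.ι_desc (fun b : ↥(I ^ (n + 1)) => Formal.smulMod A M (b : A)) ⟨a, ha⟩).symm).trans
      (Category.assoc _ _ _)
  have hex : ∀ ψ : Formal.completion I F ⟶ Formal.completion I G, ∃! φ : F ⟶ G, _ := fun ψ =>
    Groth.Agent.S0060.result A I X F G hF hG ψ
  haveI : (HensSch.pullMod ι).Additive := (HensSch.pullPushAdj ι).left_adjoint_additive
  have hlift : ∀ q : (HensSch.pullMod ι).obj F ⟶ (HensSch.pullMod ι).obj G,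
      ∃ ψ : Formal.completion I F ⟶ Formal.completion I G, ∀ n : ℕ, (HensSch.pullMod ι).map
        (Formal.modPowπ I (n + 1) F ≫ ψ.app (op n)) = q ≫ (HensSch.pullMod ι).map (Formal.modPowπ I (n + 1) G) := by
    intro q
    have hb := fun n => bijective_map_of_killed hι F (hk n G)
    choose φ hφ using fun n => (hb n).2 (q ≫ (HensSch.pullMod ι).map (Formal.modPowπ I (n + 1) G))
    have hz : ∀ n, Formal.smulFamily (I ^ (n + 1)) F ≫ φ n = 0 := fun n => by
      refine Sigma.hom_ext _ _ fun a => ?_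
      rw [Formal.smulFamily, Sigma.ι_desc_assoc, comp_zero, FFun.smulMod_naturality, hk n G a.1 a.2, comp_zero]
    have hcompat : ∀ n, φ (n + 1) ≫ Formal.modPowTrans I (n + 1) G = φ n := fun n => by
      refine (hb n).1 ?_
      rw [Functor.map_comp, hφ, hφ, Category.assoc, ← Functor.map_comp, Formal.modPowπ_trans]
    refine ⟨NatTrans.ofOpSequence (fun n => cokernel.desc _ (φ n) (hz n)) fun n => ?_, fun n => ?_⟩
    · haveI : Epi (Formal.modPowπ I (n + 1 + 1) F) := inferInstanceAs (Epi (cokernel.π _))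
      rw [← cancel_epi (Formal.modPowπ I (n + 1 + 1) F)]
      simp only [Formal.completion, Functor.ofOpSequence_map_homOfLE_succ]
      rw [← Category.assoc, ← Category.assoc, Formal.modPowπ_trans]
      show cokernel.π _ ≫ cokernel.desc _ _ _ = (cokernel.π _ ≫ cokernel.desc _ _ _) ≫ _
      rw [cokernel.π_desc, cokernel.π_desc, hcompat]
    · rw [← hφ n]
      exact congrArg _ (cokernel.π_desc _ _ _)
  refine ⟨fun φ φ' he => ?_, fun q => ?_⟩
  · obtain ⟨ψ, hψ⟩ := hlift ((HensSch.pullMod ι).map φ)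
    obtain ⟨φ₀, -, huniq⟩ := hex ψ
    refine (huniq φ fun n => ?_).trans (huniq φ' fun n => ?_).symm
    · exact (bijective_map_of_killed hι F (hk n G)).1 ((hψ n).trans (Functor.map_comp _ _ _).symm)
    · exact (bijective_map_of_killed hι F (hk n G)).1
        ((hψ n).trans (he ▸ (Functor.map_comp _ _ _).symm))
  · obtain ⟨ψ, hψ⟩ := hlift q
    obtain ⟨φ, hφ, -⟩ := hex ψ
    refine ⟨φ, sub_eq_zero.1 (eq_zero_of_comp_modPowπ hι hfin _ fun n => ?_)⟩
    rw [Preadditive.sub_comp, ← Functor.map_comp, ← hφ n, hψ n, sub_self]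

theorem bijective_unit_app_top_proper {F : X.Modules} (hF : Coh.IsCoh F) :
    Function.Bijective (((HensSch.pullPushAdj ι).unit.app F).val.app (op ⊤)) := by
  haveI : IsLocallyNoetherian X := LocallyOfFiniteType.isLocallyNoetherian (X ↘ Spec (CommRingCat.of A))
  let O : X.Modules := Coh.structureModule X
  let M : X.Modules := (HensSch.pushMod ι).obj ((HensSch.pullMod ι).obj F)
  let η : F ⟶ M := (HensSch.pullPushAdj ι).unit.app F
  have hO : Coh.IsCoh O := QCoh.isCoh_structureModule'
  have h1 : Function.Bijective fun φ : O ⟶ F => φ ≫ η := by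
    have h2 := (((HensSch.pullPushAdj ι).homEquiv O ((HensSch.pullMod ι).obj F)).bijective).comp
      (bijective_pullMod_map_proper hh hO hF)
    convert h2 using 1
    funext φ
    exact (((HensSch.pullPushAdj ι).homEquiv_unit _ _ _).trans
      ((HensSch.pullPushAdj ι).unit.naturality φ).symm).symm
  have h3 : ⇑(((HensSch.pullPushAdj ι).unit.app F).val.app (op ⊤)) =
      ⇑(KFlatLib.topEquiv M) ∘ (fun φ : O ⟶ F => φ ≫ η) ∘ ⇑(KFlatLib.topEquiv F).symm := by
    funext z
    refine Eq.trans ?_ (KFlatLib.topEquiv_naturality _ η).symm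
    exact congrArg _ ((KFlatLib.topEquiv F).apply_symm_apply z).symm
  rw [h3]
  exact (KFlatLib.topEquiv M).bijective.comp (h1.comp (KFlatLib.topEquiv F).symm.bijective)

end Groth.Agent.HensSch7
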