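import Groth.Agent.HensSch7.Sky
import Groth.Agent.HensSch7.Flat
import Groth.Agent.QCoh.Stalk
import Groth.Prelude.Def_Formal
import Mathlib.Algebra.Category.ModuleCat.Stalk
import Mathlib.RingTheory.Filtration
import Mathlib.RingTheory.Flat.FaithfullyFlat.Algebra
import Mathlib.RingTheory.TensorProduct.Basic

/-! The unit of henselisation on modules killed by a power of the ideal, and separatedness. -/

set_option autoImplicit false
set_option linter.style.haveILetI false
set_option backward.isDefEq.respectTransparency false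
set_option backward.isDefEq.respectTransparency.types false
set_option maxHeartbeats 1000000
universe u

open CategoryTheory CategoryTheory.Limits Opposite TopologicalSpace AlgebraicGeometry Topology
open scoped TensorProduct

namespace Groth.Agent.HensSch7

section Stalks

variable {Z : LocallyRingedSpace.{u}}

/-- The underlying presheaf of modules. -/
abbrev pmod (M : ModSite.Mod Z.sheaf) : PresheafOfModules.{u} (Z.presheaf ⋙ forget₂ CommRingCat.{u} RingCat.{u}) :=
  M.val

/-- The underlying presheaf of groups. -/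
noncomputable abbrev psh (M : ModSite.Mod Z.sheaf) : TopCat.Presheaf AddCommGrpCat.{u} Z.toTopCat := (pmod M).presheaf

/-- The stalk. -/
abbrev Stk (M : ModSite.Mod Z.sheaf) (x : Z) : Type u := (psh M).stalk x

/-- The germ of a section. -/
noncomputable abbrev gm (M : ModSite.Mod Z.sheaf) (U : Opens Z) (x : Z) (hx : x ∈ U)
    (s : M.val.obj (op U)) : Stk M x :=
  (psh M).germ U x hx s

/-- The map to a skyscraper given by a linear map on the stalk. -/
noncomputable def toSky (M : ModSite.Mod Z.sheaf) (x : Z) (N : ModuleCat.{u} (Z.presheaf.stalk x))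
    (φ : Stk M x →ₗ[Z.presheaf.stalk x] N) : M ⟶ sky x N :=
  ⟨{ app := fun V => ModuleCat.ofHom (Y := (sky x N).val.obj V)
      { toFun := fun m h => (φ (gm M V.unop x h.down m) : N)
        map_add' := fun a b => funext fun h =>
          (congrArg φ (map_add ((psh M).germ V.unop x h.down).hom a b)).trans (map_add φ _ _)
        map_smul' := fun r m => funext fun h =>
          (congrArg φ (PresheafOfModules.germ_smul (M := pmod M) x V.unop h.down r m)).trans (map_smul φ _ _) }
     naturality := fun {V W} i => ModuleCat.hom_ext (LinearMap.ext fun m => funext fun h =>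
        congrArg φ ((psh M).germ_res_apply i.unop x h.down m)) }⟩

theorem toSky_app (M : ModSite.Mod Z.sheaf) (x : Z) (N : ModuleCat.{u} (Z.presheaf.stalk x))
    (φ : Stk M x →ₗ[Z.presheaf.stalk x] N) (U : Opens Z) (h : PLift (x ∈ U)) (m : M.val.obj (op U)) :
    (((toSky M x N φ).val.app (op U)).hom m : ∀ _, _) h = φ (gm M U x h.down m) := rfl

end Stalks

variable {X : Scheme.{u}} {Xh : LocallyRingedSpace.{u}} (ι : Xh ⟶ X.toLocallyRingedSpace)

/-- A section pulled back. -/
noncomputable abbrev pullSec (G : X.Modules) (U : X.Opens) (s : Γ(G, U)) :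
    ((HensSch.pullMod ι).obj G).val.obj (op ((Opens.map ι.base).obj U)) :=
  (((HensSch.pullPushAdj ι).unit.app G).val.app (op U)).hom s

/-- Maps out of a pullback agree when they agree on pulled back sections. -/
theorem pull_hom_ext {G : X.Modules} {K : ModSite.Mod Xh.sheaf} (q q' : (HensSch.pullMod ι).obj G ⟶ K)
    (h : ∀ (U : X.Opens) (s : Γ(G, U)),
      (q.val.app (op ((Opens.map ι.base).obj U))).hom (pullSec ι G U s) =
        (q'.val.app (op ((Opens.map ι.base).obj U))).hom (pullSec ι G U s)) : q = q' := by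
  refine ((HensSch.pullPushAdj ι).homEquiv G K).injective ?_
  refine SheafOfModules.hom_ext ?_
  refine PresheafOfModules.hom_ext fun U => ?_
  apply ModuleCat.hom_ext
  refine LinearMap.ext fun s => ?_
  exact h U.unop s

/-- The map on stalks to the pullback. -/
noncomputable def pullStk (G : X.Modules) (x : Xh) :
    G.presheaf.stalk (ι.base x) →+ Stk ((HensSch.pullMod ι).obj G) x :=
  ((TopCat.Presheaf.stalkFunctor AddCommGrpCat.{u} (ι.base x)).map
      (show G.presheaf ⟶ (TopCat.Presheaf.pushforward AddCommGrpCat.{u} ι.base).obj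
          (psh ((HensSch.pullMod ι).obj G)) from
        (Scheme.Modules.toPresheaf X).map ((HensSch.pullPushAdj ι).unit.app G)) ≫
    TopCat.Presheaf.stalkPushforward AddCommGrpCat.{u} ι.base (psh ((HensSch.pullMod ι).obj G)) x).hom

theorem pullStk_germ (G : X.Modules) (x : Xh) (U : X.Opens) (hx : ι.base x ∈ U) (s : Γ(G, U)) :
    pullStk ι G x (G.presheaf.germ U (ι.base x) hx s) =
      gm ((HensSch.pullMod ι).obj G) ((Opens.map ι.base).obj U) x hx (pullSec ι G U s) := by
  refine (congrArg (TopCat.Presheaf.stalkPushforward AddCommGrpCat.{u} ι.base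
    (psh ((HensSch.pullMod ι).obj G)) x).hom
    (TopCat.Presheaf.stalkFunctor_map_germ_apply U (ι.base x) hx _ s)).trans ?_
  exact congr($(TopCat.Presheaf.stalkPushforward_germ AddCommGrpCat.{u} ι.base
    (psh ((HensSch.pullMod ι).obj G)) U x hx) (pullSec ι G U s))

theorem pullStk_smul (G : X.Modules) (x : Xh) (r : X.presheaf.stalk (ι.base x))
    (m : G.presheaf.stalk (ι.base x)) : pullStk ι G x (r • m) = ι.stalkMap x r • pullStk ι G x m := by
  obtain ⟨U, hU, r, rfl⟩ := X.presheaf.exists_germ_eq r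
  obtain ⟨V, hV, m, rfl⟩ := G.presheaf.exists_germ_eq m
  rw [← G.presheaf.germ_res_apply (homOfLE inf_le_right : U ⊓ V ⟶ V) (ι.base x) ⟨hU, hV⟩ m,
    ← X.presheaf.germ_res_apply (homOfLE inf_le_left : U ⊓ V ⟶ U) (ι.base x) ⟨hU, hV⟩ r, ← QCoh.germ_smul',
    pullStk_germ, pullStk_germ]
  refine (congrArg (gm ((HensSch.pullMod ι).obj G) _ x _) (map_smul
    (((HensSch.pullPushAdj ι).unit.app G).val.app (op (U ⊓ V))).hom _ _)).trans ?_
  refine (PresheafOfModules.germ_smul (M := pmod ((HensSch.pullMod ι).obj G)) x _ _ _ _).trans ?_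
  congr 1
  exact (PresheafedSpace.stalkMap_germ_apply ι.toHom (U ⊓ V) x _ _).symm

/-- The pulled back germs generate the stalk. -/
theorem span_pullStk (G : X.Modules) (x : Xh) :
    Submodule.span (Xh.presheaf.stalk x) (Set.range (pullStk ι G x)) = ⊤ := by
  let Q := Submodule.span (Xh.presheaf.stalk x) (Set.range (pullStk ι G x))
  let N : ModuleCat.{u} (Xh.presheaf.stalk x) := ModuleCat.of _ (Stk ((HensSch.pullMod ι).obj G) x ⧸ Q)
  have hq : toSky _ x N Q.mkQ = 0 := by
    refine pull_hom_ext ι _ _ fun U s => funext fun h => ?_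
    refine (toSky_app _ x N Q.mkQ _ h _).trans ?_
    refine (Submodule.Quotient.mk_eq_zero Q).2 (Submodule.subset_span ⟨_, pullStk_germ ι G x U h.down s⟩)
  refine eq_top_iff.2 fun z _ => ?_
  obtain ⟨V, hV, m, rfl⟩ := (psh ((HensSch.pullMod ι).obj G)).exists_germ_eq z
  refine (Submodule.Quotient.mk_eq_zero Q).1 ?_
  have h1 := congrArg (fun a : (HensSch.pullMod ι).obj G ⟶ sky x N =>
    (((a.val.app (op V)).hom m : ∀ _ : PLift (x ∈ V), _) ⟨hV⟩)) hq
  exact h1

theorem pullStk_injective (G : X.Modules) (x : Xh) (hflat : (ι.stalkMap x).hom.Flat) :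
    Function.Injective (pullStk ι G x) := by
  let S : Type u := X.presheaf.stalk (ι.base x)
  let T : Type u := Xh.presheaf.stalk x
  letI : Algebra S T := (ι.stalkMap x).hom.toAlgebra
  haveI : Module.Flat S T := hflat
  haveI : IsLocalHom (algebraMap S T) := AlgebraicGeometry.LocallyRingedSpace.isLocalHomStalkMap ι x
  haveI : Module.FaithfullyFlat S T := Module.FaithfullyFlat.of_flat_of_isLocalHom
  let Gy : Type u := G.presheaf.stalk (ι.base x)
  let N : ModuleCat.{u} (Xh.presheaf.stalk x) := ModuleCat.of T (T ⊗[S] Gy)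
  let ψ : G ⟶ (HensSch.pushMod ι).obj (sky x N) :=
    ⟨{ app := fun V => ModuleCat.ofHom (Y := ((HensSch.pushMod ι).obj (sky x N)).val.obj V)
        { toFun := fun m h => (1 : T) ⊗ₜ[S] (G.presheaf.germ V.unop (ι.base x) h.down m : Gy)
          map_add' := fun a b => funext fun h => by
            show (1 : T) ⊗ₜ[S] (G.presheaf.germ V.unop (ι.base x) h.down (a + b) : Gy) = _
            rw [map_add, TensorProduct.tmul_add]
            rfl
          map_smul' := fun r m => funext fun h => by
            show (1 : T) ⊗ₜ[S] (G.presheaf.germ V.unop (ι.base x) h.down (r • m) : Gy) =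
              (Xh.presheaf.germ ((Opens.map ι.base).obj V.unop) x h.down (ι.c.app V r) : T) •
                ((1 : T) ⊗ₜ[S] (G.presheaf.germ V.unop (ι.base x) h.down m : Gy))
            rw [QCoh.germ_smul', TensorProduct.smul_tmul', smul_eq_mul, mul_one, ← TensorProduct.smul_tmul,
              Algebra.smul_def, mul_one]
            congr 1
            exact PresheafedSpace.stalkMap_germ_apply ι.toHom V.unop x h.down r }
       naturality := fun {V W} i => ModuleCat.hom_ext (LinearMap.ext fun m => funext fun h => by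
        show (1 : T) ⊗ₜ[S] (G.presheaf.germ W.unop (ι.base x) h.down (G.presheaf.map i m) : Gy) =
          (1 : T) ⊗ₜ[S] (G.presheaf.germ V.unop (ι.base x) (i.unop.le h.down) m : Gy)
        exact congrArg _ (G.presheaf.germ_res_apply i.unop (ι.base x) h.down m)) }⟩
  let ψ' := ((HensSch.pullPushAdj ι).homEquiv G (sky x N)).symm ψ
  have hψ : ∀ (U : X.Opens) (s : Γ(G, U)),
      (ψ'.val.app (op ((Opens.map ι.base).obj U))).hom (pullSec ι G U s) = (ψ.val.app (op U)).hom s := fun U s =>
    congrArg (fun a : G ⟶ (HensSch.pushMod ι).obj (sky x N) => (a.val.app (op U)).hom s)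
      ((((HensSch.pullPushAdj ι).homEquiv_unit G (sky x N) ψ').symm.trans
        (((HensSch.pullPushAdj ι).homEquiv G (sky x N)).apply_symm_apply ψ)))
  refine (injective_iff_map_eq_zero _).2 fun m hm => ?_
  obtain ⟨U, hU, s, rfl⟩ := G.presheaf.exists_germ_eq m
  rw [pullStk_germ] at hm
  obtain ⟨W, hxW, i, i', hW⟩ := (psh ((HensSch.pullMod ι).obj G)).germ_eq x
    (show x ∈ (Opens.map ι.base).obj U from hU) (show x ∈ (Opens.map ι.base).obj U from hU) _ 0
    (hm.trans (map_zero _).symm)
  have h1 := congrArg (fun z : ((HensSch.pullMod ι).obj G).val.obj (op W) =>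
    (((ψ'.val.app (op W)).hom z : ∀ _ : PLift (x ∈ W), _) ⟨hxW⟩)) hW
  have h2 : (1 : T) ⊗ₜ[S] (G.presheaf.germ U (ι.base x) hU s : Gy) = 0 := by
    refine Eq.trans ?_ (h1.trans ?_)
    · exact (congrArg (fun z : (sky x N).val.obj (op W) => (z : ∀ _ : PLift (x ∈ W), _) ⟨hxW⟩)
        ((PresheafOfModules.naturality_apply ψ'.val i.op (pullSec ι G U s)).trans
          (congrArg _ (hψ U s)))).symm
    · exact congrArg (fun z : (sky x N).val.obj (op W) => (z : ∀ _ : PLift (x ∈ W), _) ⟨hxW⟩)
        ((congrArg _ (map_zero _)).trans (map_zero _))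
  exact Module.FaithfullyFlat.tensorProduct_mk_injective (A := S) (B := T) Gy
    (h2.trans (TensorProduct.tmul_zero _ _).symm)

section Killed

variable {A : Type u} [CommRing A] [X.Over (Spec (CommRingCat.of A))]

variable (A X) in
/-- A base scalar in the local ring at a point. -/
noncomputable def scalarGerm (y : X) : A →+* X.presheaf.stalk y :=
  (X.presheaf.germ ⊤ y trivial).hom.comp (Coh.toGlobal (X ↘ Spec (CommRingCat.of A)))

theorem germ_smulMod (N : X.Modules) (a : A) (U : X.Opens) (y : X) (hy : y ∈ U) (m : Γ(N, U)) :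
    N.presheaf.germ U y hy ((Formal.smulMod A N a).app U m) =
      scalarGerm X A y a • N.presheaf.germ U y hy m := by
  refine (QCoh.germ_smul' N hy _ m).trans ?_
  congr 1
  exact X.presheaf.germ_res_apply _ y hy _

theorem stalk_smul_eq_zero {N : X.Modules} {J : Ideal A} (hN : Formal.KilledBy J N) {a : A} (ha : a ∈ J) (y : X)
    (z : N.presheaf.stalk y) : scalarGerm X A y a • z = 0 := by
  obtain ⟨U, hy, m, rfl⟩ := N.presheaf.exists_germ_eq z
  rw [← germ_smulMod, hN a ha]
  exact map_zero _

/-- Properties of the henselisation map used for full faithfulness. -/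
structure GoodMap (I : Ideal A) : Prop where
  isEmbedding : IsEmbedding ι.base
  isClosed : IsClosed (Set.range ι.base)
  outside : ∀ y ∉ Set.range ι.base, ∃ a ∈ I, IsUnit (scalarGerm X A y a)
  inside : ∀ x, (I.map (scalarGerm X A (ι.base x))).map (ι.stalkMap x).hom ≤
    IsLocalRing.maximalIdeal (Xh.presheaf.stalk x)
  flat : ∀ x, (ι.stalkMap x).hom.Flat
  noeth : ∀ x, IsNoetherianRing (Xh.presheaf.stalk x)
  approx : ∀ (x : Xh) (n : ℕ) (t : Xh.presheaf.stalk x), ∃ r,
    t - ι.stalkMap x r ∈ ((I ^ n).map (scalarGerm X A (ι.base x))).map (ι.stalkMap x).hom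

variable {ι} {I : Ideal A} (hι : GoodMap ι I)
include hι

theorem pullStk_surjective {N : X.Modules} {n : ℕ} (hN : Formal.KilledBy (I ^ n) N) (x : Xh) :
    Function.Surjective (pullStk ι N x) := by
  intro z
  have hz : z ∈ Submodule.span (Xh.presheaf.stalk x) (Set.range (pullStk ι N x)) := by
    rw [span_pullStk]; trivial
  have hkill : ∀ t ∈ ((I ^ n).map (scalarGerm X A (ι.base x))).map (ι.stalkMap x).hom, ∀ m,
      t • pullStk ι N x m = 0 := by
    rw [Ideal.map_map]
    intro t ht
    refine Submodule.span_induction ?_ (fun m => zero_smul _ _) ?_ ?_ ht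
    · rintro _ ⟨a, ha, rfl⟩ m
      rw [RingHom.comp_apply, ← pullStk_smul, stalk_smul_eq_zero hN ha, map_zero]
    · exact fun p q _ _ hp hq m => by rw [add_smul, hp, hq, add_zero]
    · exact fun c p _ hp m => by rw [smul_eq_mul, mul_smul, hp, smul_zero]
  refine Submodule.span_induction ?_ ⟨0, map_zero _⟩ ?_ ?_ hz
  · exact fun z hz => hz
  · rintro _ _ _ _ ⟨a, rfl⟩ ⟨b, rfl⟩
    exact ⟨a + b, map_add _ _ _⟩
  · rintro t _ _ ⟨m, rfl⟩
    obtain ⟨r, hr⟩ := hι.approx x n t
    refine ⟨r • m, ?_⟩
    rw [pullStk_smul, ← sub_eq_zero, ← sub_smul, ← neg_sub, neg_smul, hkill _ hr m, neg_zero]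

/-- The unit is an isomorphism on modules killed by a power of the ideal. -/
theorem isIso_unit {N : X.Modules} {n : ℕ} (hN : Formal.KilledBy (I ^ n) N) :
    IsIso ((HensSch.pullPushAdj ι).unit.app N) := by
  let P : ModSite.Mod Xh.sheaf := (HensSch.pullMod ι).obj N
  let M : X.Modules := (HensSch.pushMod ι).obj P
  let η : N ⟶ M := (HensSch.pullPushAdj ι).unit.app N
  let F : TopCat.Sheaf AddCommGrpCat.{u} X := ⟨N.presheaf, N.isSheaf⟩
  let G : TopCat.Sheaf AddCommGrpCat.{u} X := ⟨M.presheaf, M.isSheaf⟩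
  let e : F ⟶ G := ⟨(Scheme.Modules.toPresheaf X).map η⟩
  have hbij : ∀ y : X, Function.Bijective ((TopCat.Presheaf.stalkFunctor AddCommGrpCat.{u} y).map e.1) := by
    intro y
    by_cases hy : y ∈ Set.range ι.base
    · obtain ⟨x, rfl⟩ := hy
      haveI := TopCat.Presheaf.stalkPushforward.stalkPushforward_iso_of_isInducing (C := AddCommGrpCat.{u})
        hι.isEmbedding.isInducing (psh P) x
      have hb : Function.Bijective (pullStk ι N x) :=
        ⟨pullStk_injective ι N x (hι.flat x), pullStk_surjective hι hN x⟩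
      exact (Function.Bijective.of_comp_iff' (ConcreteCategory.bijective_of_isIso
        (TopCat.Presheaf.stalkPushforward AddCommGrpCat.{u} ι.base (psh P) x)) _).1 hb
    · obtain ⟨a, ha, hu⟩ := hι.outside y hy
      have h1 : ∀ z : N.presheaf.stalk y, z = 0 := fun z => (hu.pow n).smul_eq_zero.1 (by
        rw [← map_pow]; exact stalk_smul_eq_zero hN (Ideal.pow_mem_pow ha n) y z)
      have h2 : ∀ z : M.presheaf.stalk y, z = 0 := by
        intro z
        obtain ⟨V, hV, m, rfl⟩ := M.presheaf.exists_germ_eq z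
        let W : X.Opens := V ⊓ ⟨(Set.range ι.base)ᶜ, hι.isClosed.isOpen_compl⟩
        rw [← M.presheaf.germ_res_apply (homOfLE inf_le_left : W ⟶ V) y ⟨hV, hy⟩ m]
        have h0 : (Opens.map ι.base).obj W = ⊥ := by
          refine eq_bot_iff.2 fun x hx => ?_
          exact absurd ⟨x, rfl⟩ hx.2
        haveI : Subsingleton ((psh P).obj (op ((Opens.map ι.base).obj W))) := by
          rw [h0]
          exact AddCommGrpCat.subsingleton_of_isZero (TopCat.Sheaf.isTerminalOfEmpty
            (⟨(psh P), P.isSheaf⟩ : TopCat.Sheaf AddCommGrpCat.{u} Xh.toTopCat)).isZero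
        refine (congrArg (M.presheaf.germ W y ⟨hV, hy⟩) ?_).trans (map_zero _)
        exact Subsingleton.elim (α := (psh P).obj (op ((Opens.map ι.base).obj W))) _ _
      exact ⟨fun a b _ => (h1 a).trans (h1 b).symm, fun z => ⟨0, (map_zero _).trans (h2 z).symm⟩⟩
  haveI : ∀ y, IsIso ((TopCat.Presheaf.stalkFunctor AddCommGrpCat.{u} y).map e.1) := fun y =>
    (ConcreteCategory.isIso_iff_bijective _).2 (hbij y)
  haveI : IsIso e := TopCat.Presheaf.isIso_of_stalkFunctor_map_iso e
  haveI : IsIso ((Scheme.Modules.toPresheaf X).map η) := Functor.map_isIso (TopCat.Sheaf.forget _ _) e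
  exact isIso_of_reflects_iso η (Scheme.Modules.toPresheaf X)

/-- Pullback is bijective on maps into a module killed by a power of the ideal. -/
theorem bijective_map_of_killed (H : X.Modules) {N : X.Modules} {n : ℕ} (hN : Formal.KilledBy (I ^ n) N) :
    Function.Bijective ((HensSch.pullMod ι).map : (H ⟶ N) → _) := by
  haveI := isIso_unit hι hN
  let e := (HensSch.pullPushAdj ι).homEquiv H ((HensSch.pullMod ι).obj N)
  have h : ∀ φ : H ⟶ N, e ((HensSch.pullMod ι).map φ) = φ ≫ (HensSch.pullPushAdj ι).unit.app N := fun φ =>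
    ((HensSch.pullPushAdj ι).homEquiv_unit _ _ _).trans ((HensSch.pullPushAdj ι).unit.naturality φ).symm
  refine ⟨fun φ φ' hφ => ?_, fun q => ⟨e q ≫ inv ((HensSch.pullPushAdj ι).unit.app N), e.injective ?_⟩⟩
  · rw [← cancel_mono ((HensSch.pullPushAdj ι).unit.app N), ← h, ← h, hφ]
  · rw [h, Category.assoc, IsIso.inv_hom_id, Category.comp_id]

theorem eq_zero_of_comp_modPowπ {G : X.Modules} (hfin : ∀ y : X, Module.Finite (X.presheaf.stalk y) (G.presheaf.stalk y))
    {H : ModSite.Mod Xh.sheaf} (d : H ⟶ (HensSch.pullMod ι).obj G)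
    (hd : ∀ n : ℕ, d ≫ (HensSch.pullMod ι).map (Formal.modPowπ I (n + 1) G) = 0) : d = 0 := by
  refine SheafOfModules.hom_ext (PresheafOfModules.hom_ext fun U => ModuleCat.hom_ext (LinearMap.ext fun e => ?_))
  refine TopCat.Presheaf.section_ext
    (⟨(psh ((HensSch.pullMod ι).obj G)), ((HensSch.pullMod ι).obj G).isSheaf⟩ :
      TopCat.Sheaf AddCommGrpCat.{u} Xh.toTopCat) U.unop _ _ fun x hx => ?_
  show gm ((HensSch.pullMod ι).obj G) U.unop x hx ((d.val.app U).hom e) =
    gm ((HensSch.pullMod ι).obj G) U.unop x hx 0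
  rw [gm, gm, map_zero]
  haveI := hι.noeth x
  let T := Xh.presheaf.stalk x
  let K : Ideal T := (I.map (scalarGerm X A (ι.base x))).map (ι.stalkMap x).hom
  haveI : Module.Finite T (Stk ((HensSch.pullMod ι).obj G) x) := by
    obtain ⟨r, g, hg⟩ := Module.Finite.exists_fin (R := X.presheaf.stalk (ι.base x)) (M := G.presheaf.stalk (ι.base x))
    refine ⟨Submodule.fg_iff_exists_fin_generating_family.2 ⟨r, fun i => pullStk ι G x (g i), ?_⟩⟩
    refine top_le_iff.1 ((span_pullStk ι G x).ge.trans (Submodule.span_le.2 ?_))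
    rintro _ ⟨m, rfl⟩
    have hm : m ∈ Submodule.span (X.presheaf.stalk (ι.base x)) (Set.range g) := hg.ge trivial
    refine Submodule.span_induction ?_ ?_ ?_ ?_ hm
    · rintro _ ⟨i, rfl⟩; exact Submodule.subset_span ⟨i, rfl⟩
    · rw [map_zero]; exact Submodule.zero_mem _
    · exact fun p q _ _ hp hq => by rw [map_add]; exact Submodule.add_mem _ hp hq
    · exact fun c p _ hp => by rw [pullStk_smul]; exact Submodule.smul_mem _ _ hp
  have key : ∀ n : ℕ, gm ((HensSch.pullMod ι).obj G) U.unop x hx ((d.val.app U).hom e) ∈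
      K ^ (n + 1) • (⊤ : Submodule T (Stk ((HensSch.pullMod ι).obj G) x)) := by
    intro n
    let Q := K ^ (n + 1) • (⊤ : Submodule T (Stk ((HensSch.pullMod ι).obj G) x))
    let N : ModuleCat.{u} T := ModuleCat.of T (Stk ((HensSch.pullMod ι).obj G) x ⧸ Q)
    let q : (HensSch.pullMod ι).obj G ⟶ sky x N := toSky _ x N Q.mkQ
    let e' := (HensSch.pullPushAdj ι).homEquiv G (sky x N)
    have hker : Formal.smulFamily (I ^ (n + 1)) G ≫ e' q = 0 := by
      refine Limits.Sigma.hom_ext _ _ fun a => ?_
      rw [Formal.smulFamily, Limits.Sigma.ι_desc_assoc, comp_zero]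
      refine SheafOfModules.hom_ext (PresheafOfModules.hom_ext fun V => ModuleCat.hom_ext (LinearMap.ext fun m => ?_))
      funext h
      refine (Submodule.Quotient.mk_eq_zero Q).2 ?_
      show gm ((HensSch.pullMod ι).obj G) _ x h.down
        (pullSec ι G V.unop ((Formal.smulMod A G a.1).app V.unop m)) ∈ Q
      refine (congrArg (· ∈ Q) (pullStk_germ ι G x V.unop h.down _)).mp ?_
      rw [germ_smulMod, pullStk_smul]
      refine Submodule.smul_mem_smul ?_ Submodule.mem_top
      rw [← Ideal.map_pow, ← Ideal.map_pow]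
      exact Ideal.mem_map_of_mem _ (Ideal.mem_map_of_mem _ a.2)
    have hfac : q = (HensSch.pullMod ι).map (Formal.modPowπ I (n + 1) G) ≫
        ((HensSch.pullPushAdj ι).homEquiv _ _).symm (cokernel.desc _ (e' q) hker) := by
      rw [← (HensSch.pullPushAdj ι).homEquiv_naturality_left_symm]
      refine (e'.symm_apply_apply q).symm.trans (congrArg e'.symm ?_)
      exact (cokernel.π_desc _ _ _).symm
    have hz : d ≫ q = 0 := by rw [hfac, ← Category.assoc, hd n, zero_comp]
    refine (Submodule.Quotient.mk_eq_zero Q).1 ?_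
    exact congrArg (fun a : H ⟶ sky x N => (((a.val.app U).hom e : ∀ _ : PLift (x ∈ U.unop), _) ⟨hx⟩)) hz
  have hK : K ≠ ⊤ := fun h => (IsLocalRing.maximalIdeal.isMaximal T).ne_top
    (top_le_iff.1 (h.ge.trans (hι.inside x)))
  refine (Submodule.mem_bot T).1 ?_
  rw [← Ideal.iInf_pow_smul_eq_bot_of_isLocalRing (M := Stk ((HensSch.pullMod ι).obj G) x) K hK]
  refine Submodule.mem_iInf _ |>.2 fun n => ?_
  exact Submodule.smul_mono_left (Ideal.pow_le_pow_right (Nat.le_succ n)) (key n)

end Killed

end Groth.Agent.HensSch7
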